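import Groth.Agent.CohTop.K313.DescRow
import Groth.Agent.FibDesc.K781.Proper
import Groth.Agent.FibDesc.K438.Rows
import Groth.Agent.FibDesc.K290.Hyp
import Groth.Agent.CohtopA.PBSquare

/-!
# Descent of the Godement complex along proper hypercoverings
-/

set_option autoImplicit false
set_option backward.isDefEq.respectTransparency false
set_option backward.isDefEq.respectTransparency.types false

universe u

open CategoryTheory CategoryTheory.Limits Opposite TopologicalSpace ComplexShape

namespace K880.ProperHyp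

open K781.God K781.Desc K781.Cech K781.Row Groth.Agent Groth.Agent.CohtopA.PBSquare

variable (S : TopCat.{u})

/-- Proper surjective maps with separated fibres, over `S`. -/
def PS : MorphismProperty (Over S) := fun X Y f =>
  IsProperMap f.left ∧ (∀ x x' : X.left, f.left x = f.left x' → x ≠ x' →
      ∃ U V : Set X.left, IsOpen U ∧ IsOpen V ∧ x ∈ U ∧ x' ∈ V ∧ Disjoint U V) ∧ Function.Surjective f.left

variable {S}

lemma ps_of_isIso {X Y : Over S} (f : X ⟶ Y) [IsIso f] : PS S f := by
  have h1 : IsIso f.left := inferInstance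
  have h2 : Function.Bijective f.left := (TopCat.homeoOfIso (asIso f.left)).bijective
  exact ⟨(TopCat.homeoOfIso (asIso f.left)).isProperMap, fun x x' h h' => (h' (h2.1 h)).elim, h2.2⟩

lemma ps_comp {X Y Z : Over S} (f : X ⟶ Y) (g : Y ⟶ Z) (hf : PS S f) (hg : PS S g) : PS S (f ≫ g) := by
  refine ⟨?_, ?_, ?_⟩
  · exact hg.1.comp hf.1
  · intro x x' h h'
    by_cases h1 : f.left x = f.left x'
    · exact hf.2.1 x x' h1 h'
    · obtain ⟨U, V, hU, hV, hx, hx', hd⟩ := hg.2.1 (f.left x) (f.left x') h h1
      exact ⟨f.left ⁻¹' U, f.left ⁻¹' V, hU.preimage f.left.hom.continuous, hV.preimage f.left.hom.continuous,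
        hx, hx', hd.preimage _⟩
  · exact hg.2.2.comp hf.2.2

instance : (PS S).IsMultiplicative where
  id_mem X := ps_of_isIso (𝟙 X)
  comp_mem f g hf hg := ps_comp f g hf hg

instance : (PS S).IsStableUnderBaseChange where
  of_isPullback {X Y Y' S' f g f' g'} sq hg := by
    have sq1 : IsPullback f'.left g'.left g.left f.left := sq.map (Over.forget S)
    have sq2 := IsPB.of_isPullback sq1
    refine ⟨sq2.isProperMap hg.1, ?_, ?_⟩
    · intro x x' h h'
      have h1 : g.left (f'.left x) = g.left (f'.left x') := by rw [sq2.comm, sq2.comm, h]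
      have h2 : f'.left x ≠ f'.left x' := fun h3 => h' (sq2.inj _ _ h3 h)
      obtain ⟨U, V, hU, hV, hx, hx', hd⟩ := hg.2.1 _ _ h1 h2
      exact ⟨f'.left ⁻¹' U, f'.left ⁻¹' V, hU.preimage f'.left.hom.continuous,
        hV.preimage f'.left.hom.continuous, hx, hx', hd.preimage _⟩
    · intro y
      obtain ⟨x, hx⟩ := hg.2.2 (f.left y)
      obtain ⟨z, -, hz⟩ := sq2.surj x y hx
      exact ⟨z, hz⟩

/-- Descent of the Godement complex along the Cech nerve of a proper surjective map over `S`. -/
theorem descP_nerve {X T : Over S} (f : X ⟶ T) (hf : PS S f) (P : (Over S)ᵒᵖ ⥤ AddCommGrpCat.{u})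
    (hP : IsCart P) : DescP P (nerve f) := by
  refine desc_of_coh f.left (K781.Crit.isCohDescentMap_of_proper f.left hf.1 hf.2.1 hf.2.2) T.hom P hP
    (nerve f) (isCech_nerve f) (nerveZero f).hom.left (𝟙 T.left) ?_ ?_ ?_
  · exact Topology.IsOpenEmbedding.id
  · exact Category.id_comp _
  · have h1 : (nerveZero f).hom.left ≫ f.left = ((nerve f).map (init (ob 0)).op).left :=
      congrArg CommaMorphism.left (nerveZero_hom f)
    have h2 : IsIso (nerveZero f).hom.left := inferInstance
    have h3 : @IsIso TopCat.{u} _ ((nerve f).obj (op .star)).left T.left (𝟙 T.left) :=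
      inferInstanceAs (IsIso (𝟙 T.left))
    refine IsPullback.of_horiz_isIso ⟨?_⟩
    rw [h1]
    exact (Category.comp_id _).symm

/-- The augmented simplicial space over `S` of a simplicial space over `S`. -/
noncomputable abbrev tau (K : SimplicialObject (Over S)) : Dpᵒᵖ ⥤ Over S :=
  AugmentedSimplexCategory.equivAugmentedSimplicialObject.inverse.obj
    (SimplicialObject.augment K (Over.mk (𝟙 S)) (Over.mkIdTerminal.from _)
      (fun _ _ _ => Over.mkIdTerminal.hom_ext _ _))

/-- Descent of the Godement complex along proper hypercoverings. -/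
theorem descP_of_hypercovering
    [∀ (n : ℕ) (G : (SimplexCategory.Truncated n)ᵒᵖ ⥤ Over S),
      (SimplexCategory.Truncated.inclusion n).op.HasRightKanExtension G]
    (K : SimplicialObject (Over S))
    (h0 : PS S (Over.mkIdTerminal.from (K.obj (op (SimplexCategory.mk 0)))))
    (hn : ∀ n : ℕ, PS S (((SimplicialObject.coskAdj n).unit.app K).app (op (SimplexCategory.mk (n + 1)))))
    (P : (Over S)ᵒᵖ ⥤ AddCommGrpCat.{u}) (hP : IsCart P) : DescP P (tau K) :=
  K290.Hyp.isDesc_of_hypercovering (PS S) (bb_G P) (fun _ _ f hf => descP_nerve f hf P hP)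
    Over.mkIdTerminal K h0 hn

end K880.ProperHyp
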